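import Groth.Agent.CurveCohLib.Euler
import Groth.Agent.QCoh.AffineCohom
import Groth.Agent.AffStrat.Vanishing
import Groth.Agent.Lib.CurveVanish
import Groth.Agent.Lib.CurveRR
import Groth.Agent.QCoh.Support

/-! `H¹` from a covering by two affine opens. -/

noncomputable section

set_option linter.style.haveILetI false
set_option linter.unusedSectionVars false
set_option backward.isDefEq.respectTransparency false
set_option backward.isDefEq.respectTransparency.types false

universe u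

open CategoryTheory CategoryTheory.Limits AlgebraicGeometry TopologicalSpace Opposite
open Groth.Agent.PnCoh.Finite (mapLin)

namespace Groth.Agent.TwoOpen

open Groth.Agent

/-- If sections on `U ⊓ V` split and restriction to `U` is injective, then `H¹` vanishes. -/
theorem subsingleton_h1 (A : Type u) [CommRing A] {X : Scheme.{u}} [X.Over (Spec (CommRingCat.of A))]
    [X.IsSeparated] {U V : X.Opens} (hU : IsAffineOpen U) (hV : IsAffineOpen V) (hcov : U ⊔ V = ⊤)
    {M : X.Modules} (hM : Coh.IsQCoh M)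
    (hinj : ∀ W : X.Opens, Function.Injective (M.presheaf.map (homOfLE (inf_le_right : U ⊓ W ≤ W)).op))
    (hsplit : ∀ w : Γ(M, U ⊓ V), ∃ (a : Γ(M, U)) (b : Γ(M, V)),
      w = M.presheaf.map (homOfLE (inf_le_left : U ⊓ V ≤ U)).op a +
        M.presheaf.map (homOfLE (inf_le_right : U ⊓ V ≤ V)).op b) :
    Subsingleton (Coh.HH X M 1) := by
  haveI : IsAffine U.toScheme := hU
  haveI : IsAffineHom (U.ι ≫ terminal.from X) := isAffineHom_of_isAffine _
  haveI : IsAffineHom U.ι := IsAffineHom.of_comp U.ι (terminal.from X)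
  let J : X.Modules := (Scheme.Modules.pushforward U.ι).obj (M.restrict U.ι)
  let η : M ⟶ J := (Scheme.Modules.restrictAdjunction U.ι).unit.app M
  have himg : ∀ W : X.Opens, U.ι ''ᵁ (U.ι ⁻¹ᵁ W) = U ⊓ W := fun W => by
    rw [Scheme.Hom.image_preimage_eq_opensRange_inf, Scheme.Opens.opensRange_ι]
  have hηapp : ∀ (W : X.Opens) (s : Γ(M, W)),
      (η.app W s : Γ(M, U.ι ''ᵁ (U.ι ⁻¹ᵁ W))) = M.presheaf.map (homOfLE (U.ι.image_preimage_le W)).op s :=
    fun W s => congr(($(Scheme.Modules.restrictAdjunction_unit_app_app U.ι M W)) s)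
  have hJ : Coh.IsQCoh J := QCoh.isQCoh_pushforward U.ι (QCoh.isQCoh_restrict U.ι hM)
  haveI hJ1 : Subsingleton (Coh.HH X J 1) := by
    obtain ⟨e⟩ := QCoh.HH_push_of_isAffineHom U.ι (QCoh.isQCoh_restrict U.ι hM) 1
    haveI := QCoh.subsingleton_HH_of_isAffine (QCoh.isQCoh_restrict U.ι hM) 0
    exact e.symm.toEquiv.subsingleton
  have hres : ∀ {W W' W'' : X.Opens} (h : W' ≤ W) (h' : W'' ≤ W') (s : Γ(M, W)),
      M.presheaf.map (homOfLE h').op (M.presheaf.map (homOfLE h).op s) = M.presheaf.map (homOfLE (h'.trans h)).op s :=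
    fun h h' s => (congr(($(M.presheaf.map_comp (homOfLE h).op (homOfLE h').op)) s)).symm
  haveI : Mono η := by
    refine Preadditive.mono_of_cancel_zero _ fun {P} g hg => Scheme.Modules.hom_ext _ _ fun W => ?_
    ext p
    refine hinj W ?_
    show _ = M.presheaf.map (homOfLE (inf_le_right : U ⊓ W ≤ W)).op 0
    rw [map_zero]
    have h := congr(($hg).app W p)
    have h' : M.presheaf.map (homOfLE (U.ι.image_preimage_le W)).op (g.app W p) = 0 := (hηapp W _).symm.trans h
    rw [← hres (U.ι.image_preimage_le W) (himg W).ge, h', map_zero]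
  let Q := cokernel η
  have hQ : Coh.IsQCoh Q := QCoh.isQCoh_cokernel hM hJ η
  have hS := CurveSlope.shortExact_cokernel_of_mono η
  have hQzero : ∀ W : X.Opens, IsAffineOpen W → W ≤ U → Subsingleton Γ(Q, W) := fun W hW hWU =>
    subsingleton_of_forall_eq 0 fun c => by
      obtain ⟨t, rfl⟩ := QCoh.app_surjective_of_epi hJ hQ (cokernel.π η) hW c
      obtain ⟨r, rfl⟩ := (AffStrat.bijective_unit_app M U hWU).2 t
      exact congrArg (fun q : M ⟶ Q => q.app W r) (cokernel.condition η)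
  have hsurj : Function.Surjective ((cokernel.π η).app ⊤) := by
    intro q
    obtain ⟨w, hw⟩ := QCoh.app_surjective_of_epi hJ hQ (cokernel.π η) hV (Q.presheaf.map (homOfLE (le_top : V ≤ ⊤)).op q)
    obtain ⟨a, b, hab⟩ := hsplit (M.presheaf.map (homOfLE (himg V).ge).op (show Γ(M, U.ι ''ᵁ (U.ι ⁻¹ᵁ V)) from w))
    have htopU : U.ι ''ᵁ (U.ι ⁻¹ᵁ ⊤) ≤ U := by rw [himg]; exact inf_le_left
    let a' : Γ(J, ⊤) := show Γ(M, U.ι ''ᵁ (U.ι ⁻¹ᵁ ⊤)) from M.presheaf.map (homOfLE htopU).op a
    refine ⟨a', ?_⟩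
    refine TopCat.Sheaf.eq_of_locally_eq' ⟨Q.presheaf, Q.isSheaf⟩
      (fun i : ULift.{u} Bool => if i.down then U else V) ⊤ (fun i => homOfLE le_top) ?_ _ _ fun i => ?_
    · intro x _
      have hx : x ∈ U ⊔ V := hcov.ge trivial
      rcases (Opens.mem_sup.1 hx) with h | h
      · exact Opens.mem_iSup.2 ⟨⟨true⟩, h⟩
      · exact Opens.mem_iSup.2 ⟨⟨false⟩, h⟩
    · rcases i with ⟨_ | _⟩
      · show Q.presheaf.map (homOfLE (le_top : V ≤ ⊤)).op ((cokernel.π η).app ⊤ a') =
          Q.presheaf.map (homOfLE (le_top : V ≤ ⊤)).op q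
        refine Eq.trans ?_ hw
        refine ((QCoh.map_app_comm (cokernel.π η) (homOfLE (le_top : V ≤ ⊤)) a').symm).trans ?_
        have hwa : (show Γ(M, U.ι ''ᵁ (U.ι ⁻¹ᵁ V)) from w) =
            (show Γ(M, U.ι ''ᵁ (U.ι ⁻¹ᵁ V)) from J.presheaf.map (homOfLE (le_top : V ≤ ⊤)).op a') +
              M.presheaf.map (homOfLE (U.ι.image_preimage_le V)).op b := by
          have h1 := congrArg (M.presheaf.map (homOfLE (himg V).le).op) hab
          rw [map_add, hres, hres, hres] at h1
          have h2 : M.presheaf.map (homOfLE (le_refl (U.ι ''ᵁ (U.ι ⁻¹ᵁ V)))).op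
              (show Γ(M, U.ι ''ᵁ (U.ι ⁻¹ᵁ V)) from w) = w := ConcreteCategory.congr_hom (M.presheaf.map_id _) _
          refine h2.symm.trans (h1.trans ?_)
          congr 1
          exact (hres htopU (U.ι.image_mono (fun z _ => trivial)) a).symm
        have hw' : w = J.presheaf.map (homOfLE (le_top : V ≤ ⊤)).op a' + η.app V b := by
          refine hwa.trans ?_
          rw [← hηapp]
        rw [hw', map_add]
        refine (add_eq_left.2 ?_).symm
        exact congrArg (fun r : M ⟶ Q => r.app V b) (cokernel.condition η)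
      · haveI := hQzero U hU le_rfl
        exact Subsingleton.elim (α := Γ(Q, U)) _ _
  have hp0 : Function.Surjective (mapLin A (cokernel.π η) 0) := fun y => by
    obtain ⟨t, ht⟩ := hsurj (Sheaf.H.equiv₀ (Coh.toAb Q) isTerminalTop y)
    refine ⟨(Sheaf.H.equiv₀ (Coh.toAb J) isTerminalTop).symm t, (Sheaf.H.equiv₀ (Coh.toAb Q) isTerminalTop).injective ?_⟩
    refine (Sheaf.H.equiv₀_naturality isTerminalTop ((QCoh.toAbFunctor X).map (cokernel.π η)) _).symm.trans ?_
    exact (congrArg ((cokernel.π η).app ⊤) (AddEquiv.apply_symm_apply _ _)).trans ht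
  refine subsingleton_of_forall_eq 0 fun y => ?_
  obtain ⟨x, rfl⟩ := (CurveCohLib.ker_mapLin_f_succ A hS 0).le
    (LinearMap.mem_ker.2 (Subsingleton.elim (mapLin A η 1 y) 0))
  obtain ⟨w, rfl⟩ := hp0 x
  exact LinearMap.mem_ker.1 ((CurveCohLib.ker_deltaLin A hS 0).ge ⟨w, rfl⟩)

end Groth.Agent.TwoOpen
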