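import Groth.Agent.TwoOpen.Basic
import Mathlib.Algebra.Polynomial.Eval.Defs

/-! Laurent coverings: `U ⊓ V` is the locus where a generator `f` of `O(U)` is invertible, with inverse in `O(V)`. -/

noncomputable section

set_option linter.style.haveILetI false
set_option linter.unusedSectionVars false
set_option backward.isDefEq.respectTransparency false
set_option backward.isDefEq.respectTransparency.types false

universe u

open CategoryTheory CategoryTheory.Limits AlgebraicGeometry TopologicalSpace Opposite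

namespace Groth.Agent.TwoOpen

open Groth.Agent

variable {A : Type u} [CommRing A] {X : Scheme.{u}}

theorem exists_split (φ : A →+* Γ(X, ⊤)) {U V : X.Opens} (hU : IsAffineOpen U) (f : Γ(X, U)) (g : Γ(X, V))
    (hov : U ⊓ V = X.basicOpen f)
    (hfg : X.presheaf.map (homOfLE (inf_le_left : U ⊓ V ≤ U)).op f *
      X.presheaf.map (homOfLE (inf_le_right : U ⊓ V ≤ V)).op g = 1)
    (hgen : Subring.closure (Set.range ((X.presheaf.map (homOfLE (le_top : U ≤ ⊤)).op).hom.comp φ) ∪ {f}) = ⊤)
    (w : Γ(X, U ⊓ V)) :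
    ∃ (a : Γ(X, U)) (b : Γ(X, V)),
      w = X.presheaf.map (homOfLE (inf_le_left : U ⊓ V ≤ U)).op a +
        X.presheaf.map (homOfLE (inf_le_right : U ⊓ V ≤ V)).op b := by
  let rU : Γ(X, U) →+* Γ(X, U ⊓ V) := (X.presheaf.map (homOfLE (inf_le_left : U ⊓ V ≤ U)).op).hom
  let rV : Γ(X, V) →+* Γ(X, U ⊓ V) := (X.presheaf.map (homOfLE (inf_le_right : U ⊓ V ≤ V)).op).hom
  let φU : A →+* Γ(X, U) := (X.presheaf.map (homOfLE (le_top : U ≤ ⊤)).op).hom.comp φ
  let φV : A →+* Γ(X, V) := (X.presheaf.map (homOfLE (le_top : V ≤ ⊤)).op).hom.comp φ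
  have hφ : ∀ a, rU (φU a) = rV (φV a) := fun a => by
    simp only [rU, rV, φU, φV, RingHom.comp_apply, ← CommRingCat.comp_apply, ← Functor.map_comp, ← op_comp]
    rfl
  -- every section on the overlap is `u / fⁿ`
  obtain ⟨u, n, hw⟩ : ∃ (u : Γ(X, U)) (n : ℕ), w * rU f ^ n = rU u := by
    have key : ∀ (W : X.Opens) (_ : W = X.basicOpen f) (h : W ≤ U) (w : Γ(X, W)),
        ∃ (u : Γ(X, U)) (n : ℕ), w * (X.presheaf.map (homOfLE h).op f) ^ n = X.presheaf.map (homOfLE h).op u := by
      rintro W rfl h w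
      haveI := hU.isLocalization_basicOpen f
      obtain ⟨⟨u, s⟩, hus⟩ := IsLocalization.surj (Submonoid.powers f) w
      obtain ⟨n, hn⟩ := s.2
      refine ⟨u, n, ?_⟩
      have h2 : w * algebraMap Γ(X, U) Γ(X, X.basicOpen f) (f ^ n) = algebraMap Γ(X, U) Γ(X, X.basicOpen f) u := by
        rw [show f ^ n = (s : Γ(X, U)) from hn]
        exact hus
      rwa [map_pow] at h2
    exact key _ hov inf_le_left w
  obtain ⟨P, rfl⟩ : ∃ P : Polynomial A, Polynomial.eval₂RingHom φU f P = u := by
    refine RingHom.mem_range.1 (hgen.ge.trans (Subring.closure_le.2 ?_) (Subring.mem_top u))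
    rintro z (⟨a, rfl⟩ | rfl)
    · exact ⟨Polynomial.C a, Polynomial.eval₂_C _ _⟩
    · exact ⟨Polynomial.X, Polynomial.eval₂_X _ _⟩
  have hw' : w = rU (Polynomial.eval₂RingHom φU f P) * rV g ^ n := by
    rw [← hw, mul_assoc, ← mul_pow, show rU f * rV g = 1 from hfg, one_pow, mul_one]
  subst hw'
  clear hw
  induction P using Polynomial.induction_on' with
  | add p q hp hq =>
    obtain ⟨a, b, h⟩ := hp
    obtain ⟨a', b', h'⟩ := hq
    refine ⟨a + a', b + b', ?_⟩
    rw [map_add, map_add, add_mul, h, h', map_add, map_add]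
    abel
  | monomial i c =>
    rw [show Polynomial.eval₂RingHom φU f (Polynomial.monomial i c) = φU c * f ^ i from Polynomial.eval₂_monomial _ _,
      map_mul, map_pow]
    rcases le_or_gt n i with h | h
    · refine ⟨φU c * f ^ (i - n), 0, ?_⟩
      obtain ⟨m, rfl⟩ := Nat.exists_eq_add_of_le h
      rw [map_zero, add_zero]
      show _ = rU (φU c * f ^ (n + m - n))
      rw [Nat.add_sub_cancel_left, map_mul, map_pow, pow_add, mul_assoc, mul_comm (rU f ^ n), mul_assoc, ← mul_pow,
        show rU f * rV g = 1 from hfg, one_pow, mul_one]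
    · refine ⟨0, φV c * g ^ (n - i), ?_⟩
      obtain ⟨m, rfl⟩ := Nat.exists_eq_add_of_le h.le
      rw [map_zero, zero_add]
      show _ = rV (φV c * g ^ (i + m - i))
      rw [Nat.add_sub_cancel_left, map_mul, map_pow, pow_add, ← hφ, mul_assoc, ← mul_assoc (rU f ^ i), ← mul_pow,
        show rU f * rV g = 1 from hfg, one_pow, one_mul]

end Groth.Agent.TwoOpen
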